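import Cfsg.Agent.H895.SLT.Trace
import Cfsg.Agent.S0813
import Cfsg.Agent.StdAlt.Six.Act
set_option linter.all false

-- part: H895/SLT/Res
section
/-!
# Orders of residual subgroups of `SL_3` (helper895)
-/

set_option autoImplicit false

namespace Cfsg.Agent.H895.SLT

open Cfsg Cfsg.Geo
open scoped MatrixGroups Matrix

variable {F : Type*} [Field F] {M P : Subgroup (GL (Fin 3) F)}

/-- scalars in the core -/
abbrev ZP (P : Subgroup (GL (Fin 3) F)) : Subgroup P := (scalars (Fin 3) F).subgroupOf P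

instance zp_normal (P : Subgroup (GL (Fin 3) F)) : (ZP P).Normal :=
  inferInstanceAs ((scalars (Fin 3) F).subgroupOf P).Normal

/-- conjugation on the core -/
def cjP (hc : IsResidualCore M P) (m : M) : P ≃* P where
  toFun x := ⟨m * x * (m : GL (Fin 3) F)⁻¹, hc.normal m m.2 x x.2⟩
  invFun x := ⟨(m : GL (Fin 3) F)⁻¹ * x * m, by
    have := hc.normal (m : GL (Fin 3) F)⁻¹ (M.inv_mem m.2) x x.2
    rwa [inv_inv] at this⟩
  left_inv x := Subtype.ext (by
    show (m : GL (Fin 3) F)⁻¹ * (m * x * (m : GL (Fin 3) F)⁻¹) * m = x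
    group)
  right_inv x := Subtype.ext (by
    show (m : GL (Fin 3) F) * ((m : GL (Fin 3) F)⁻¹ * x * m) * (m : GL (Fin 3) F)⁻¹ = x
    group)
  map_mul' x y := Subtype.ext (by
    show (m : GL (Fin 3) F) * (x * y) * (m : GL (Fin 3) F)⁻¹ =
      m * x * (m : GL (Fin 3) F)⁻¹ * (m * y * (m : GL (Fin 3) F)⁻¹)
    group)

theorem cjP_val (hc : IsResidualCore M P) (m : M) (x : P) :
    ((cjP hc m x : P) : GL (Fin 3) F) = m * x * (m : GL (Fin 3) F)⁻¹ := rfl

theorem cjP_map (hc : IsResidualCore M P) (m : M) : (ZP P).map (cjP hc m).toMonoidHom = ZP P := by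
  ext x
  constructor
  · rintro ⟨y, hy, rfl⟩
    exact scalars_normal.conj_mem _ hy m
  · intro hx
    refine ⟨(cjP hc m).symm x, ?_, (cjP hc m).apply_symm_apply x⟩
    show (m : GL (Fin 3) F)⁻¹ * x * m ∈ scalars (Fin 3) F
    have := scalars_normal.conj_mem _ (show (x : GL (Fin 3) F) ∈ scalars (Fin 3) F from hx) (m : GL (Fin 3) F)⁻¹
    rwa [inv_inv] at this

/-- the action on the simple quotient -/
def act (hc : IsResidualCore M P) : M →* MulAut (P ⧸ ZP P) :=
  MonoidHom.mk' (fun m => QuotientGroup.congr (ZP P) (ZP P) (cjP hc m) (cjP_map hc m)) (by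
    intro a b
    ext x
    obtain ⟨y, rfl⟩ := QuotientGroup.mk_surjective x
    show (QuotientGroup.mk (cjP hc (a * b) y) : P ⧸ ZP P) = QuotientGroup.mk (cjP hc a (cjP hc b y))
    congr 1
    apply Subtype.ext
    rw [cjP_val, cjP_val, cjP_val, Subgroup.coe_mul]
    group)

theorem act_mk (hc : IsResidualCore M P) (m : M) (x : P) :
    act hc m (QuotientGroup.mk x) = QuotientGroup.mk (cjP hc m x) := rfl

theorem ker_act (hc : IsResidualCore M P) {m : M} (hm : act hc m = 1) : (m : GL (Fin 3) F) ∈ scalars (Fin 3) F := by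
  apply hc.centralizer_scalar m m.2
  intro x hx
  have h1 := congrArg (fun α : MulAut (P ⧸ ZP P) => α (QuotientGroup.mk ⟨x, hx⟩)) hm
  simp only [MulAut.one_apply] at h1
  rw [act_mk, eq_comm, QuotientGroup.eq] at h1
  have h2 : x⁻¹ * (m * x * (m : GL (Fin 3) F)⁻¹) ∈ scalars (Fin 3) F := h1
  have h3 := scalars_normal.conj_mem _ h2 x
  have e : x * (x⁻¹ * (m * x * (m : GL (Fin 3) F)⁻¹)) * x⁻¹ = m * x * (m : GL (Fin 3) F)⁻¹ * x⁻¹ := by group
  rwa [e] at h3

theorem card_scalars_dvd [Finite F] {A : Subgroup (GL (Fin 3) F)} (hA : A ≤ scalars (Fin 3) F) (hS : A ≤ S3 F) :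
    Nat.card A ∣ 3 := by
  classical
  have : Fintype F := Fintype.ofFinite F
  -- embed in the cube roots of unity
  have h1 : ∀ a : A, ∃ c : Fˣ, ((a : GL (Fin 3) F) : Matrix (Fin 3) (Fin 3) F) =
      (c : F) • (1 : Matrix (Fin 3) (Fin 3) F) := fun a => (mem_scalars_iff _).1 (hA a.2)
  choose f hf using h1
  have hinj : Function.Injective f := by
    intro a b hab
    apply Subtype.ext
    apply Units.ext
    rw [hf, hf, hab]
  have hcube : ∀ a, f a ^ 3 = 1 := by
    intro a
    have h2 := det_eq_one (hS a.2)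
    rw [hf, Matrix.det_smul, Matrix.det_one, Fintype.card_fin, mul_one] at h2
    exact Units.ext (by rw [Units.val_pow_eq_pow_val, h2, Units.val_one])
  let φ : A →* Fˣ := MonoidHom.mk' f (by
    intro a b
    apply Units.ext
    have h2 : (((a * b : A) : GL (Fin 3) F) : Matrix (Fin 3) (Fin 3) F) =
        ((a : GL (Fin 3) F) : Matrix (Fin 3) (Fin 3) F) * ((b : GL (Fin 3) F) : Matrix (Fin 3) (Fin 3) F) := rfl
    rw [hf, hf, hf] at h2
    have h3 := congrFun (congrFun h2 0) 0
    simpa [mul_comm] using h3)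
  have hr : φ.range ≤ rootsOfUnity 3 F := by
    rintro _ ⟨a, rfl⟩
    exact (mem_rootsOfUnity _ _).2 (hcube a)
  have h4 : Nat.card A = Nat.card φ.range := Nat.card_congr (MonoidHom.ofInjective (f := φ) hinj).toEquiv
  have h5 : Nat.card A ≤ 3 := by
    rw [h4]
    refine (Nat.card_le_card_of_injective _ (Subgroup.inclusion_injective hr)).trans ?_
    exact card_rootsOfUnity F 3
  have h6 : IsPGroup 3 A := by
    intro a
    refine ⟨1, ?_⟩
    apply hinj
    have h7 : φ (a ^ 3) = φ 1 := by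
      rw [map_pow, map_one]; exact hcube a
    rw [pow_one]; exact h7
  have : Fact (Nat.Prime 3) := ⟨Nat.prime_three⟩
  obtain ⟨n, hn⟩ := IsPGroup.iff_card.1 h6
  have h8 : n ≤ 1 := by
    by_contra hc
    push Not at hc
    have : 3 ^ 2 ≤ 3 ^ n := Nat.pow_le_pow_right (by norm_num) hc
    omega
  rw [hn]
  exact pow_dvd_pow 3 h8 |>.trans (by norm_num)

theorem card_dvd_of_core [Finite F] (hc : IsResidualCore M P) (hM : M ≤ S3 F) :
    Nat.card M ∣ 3 * Nat.card (MulAut (P ⧸ ZP P)) := by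
  have h1 : Nat.card M = Nat.card (act hc).ker * Nat.card (act hc).range := by
    rw [← Subgroup.card_mul_index (act hc).ker, Subgroup.index_ker]
  have h2 : Nat.card (act hc).ker ∣ 3 := by
    have h3 := card_scalars_dvd (A := (act hc).ker.map M.subtype) (by
      rintro _ ⟨m, hm, rfl⟩
      exact ker_act hc hm) (by
      rintro _ ⟨m, hm, rfl⟩
      exact hM m.2)
    rwa [Nat.card_congr ((act hc).ker.equivMapOfInjective _ M.subtype_injective).symm.toEquiv] at h3
  rw [h1]
  exact Nat.mul_dvd_mul h2 (Subgroup.card_subgroup_dvd_card _)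

end Cfsg.Agent.H895.SLT
end

-- part: H895/SLT/ResCard
section
/-!
# Orders of residual subgroups of `SL_3`: the two cases (helper895)
-/

set_option autoImplicit false

namespace Cfsg.Agent.H895.SLT

open Cfsg Cfsg.Geo
open scoped MatrixGroups Matrix

theorem card_aut_a6 : Nat.card (MulAut (alternatingGroup (Fin 6))) = 1440 := by
  classical
  obtain ⟨θ, hθ⟩ := StdAlt.Six.exists_theta
  have hmem : ∀ α : MulAut StdAlt.Six.A6, α ∈ StdAlt.Six.pc.range ↔ StdAlt.Six.NS α := by
    intro α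
    rw [StdAlt.Six.ns_iff]
    constructor
    · rintro ⟨σ, h⟩; exact ⟨σ, h.symm⟩
    · rintro ⟨σ, h⟩; exact ⟨σ, h.symm⟩
  have h1 : StdAlt.Six.pc.range.index = 2 := by
    rw [Subgroup.index_eq_two_iff]
    refine ⟨θ, fun b => ?_⟩
    rw [hmem, hmem]
    by_cases hb : StdAlt.Six.NS b
    · exact Or.inr ⟨hb, StdAlt.Six.not_ns_mul_left hb hθ⟩
    · exact Or.inl ⟨StdAlt.Six.NS.mul_of_not hb hθ, hb⟩
  have h2 : Nat.card StdAlt.Six.pc.range = 720 := by
    have h3 : Function.Injective StdAlt.Six.pc := fun _ _ h => StdAlt.Six.pc_inj h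
    rw [← Nat.card_congr (MonoidHom.ofInjective (f := StdAlt.Six.pc) h3).toEquiv, Nat.card_perm,
      Nat.card_eq_fintype_card, Fintype.card_fin]
    rfl
  have h3 := Subgroup.card_mul_index StdAlt.Six.pc.range
  rw [h1, h2] at h3
  exact h3.symm

theorem card_aut_l : Nat.card (MulAut (Matrix.ProjectiveSpecialLinearGroup (Fin 3) (ZMod 2))) ∣ 336 := by
  have h := S0813.result (F := ZMod 2) 2 1 le_rfl (by rw [ZMod.card, pow_one]) 3 (by norm_num) (by norm_num)
  rw [h]
  have h1 : Nat.card (Matrix.ProjGenLinGroup (Fin 3) (ZMod 2)) ∣ Nat.card (GL (Fin 3) (ZMod 2)) :=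
    Subgroup.card_quotient_dvd_card _
  rw [Matrix.card_GL_field, ZMod.card, Fin.prod_univ_three] at h1
  norm_num at h1 ⊢
  exact Nat.mul_dvd_mul (dvd_refl 2) h1

variable {F : Type*} [Field F] [Finite F] {M P : Subgroup (GL (Fin 3) F)}

theorem card_of_l (hc : IsResidualCore M P) (hM : M ≤ S3 F)
    (e : (P ⧸ (scalars (Fin 3) F).subgroupOf P) ≃* Matrix.ProjectiveSpecialLinearGroup (Fin 3) (ZMod 2)) :
    Nat.card M ∣ 1008 := by
  refine (card_dvd_of_core hc hM).trans ?_
  rw [Nat.card_congr (MulAut.congr e).toEquiv]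
  exact Nat.mul_dvd_mul (dvd_refl 3) card_aut_l

theorem card_of_a (hc : IsResidualCore M P) (hM : M ≤ S3 F)
    (e : (P ⧸ (scalars (Fin 3) F).subgroupOf P) ≃* alternatingGroup (Fin 6)) :
    Nat.card M ∣ 4320 := by
  refine (card_dvd_of_core hc hM).trans ?_
  rw [Nat.card_congr (MulAut.congr e).toEquiv, card_aut_a6]

end Cfsg.Agent.H895.SLT
end
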