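import Cfsg.Agent.H905.SLProper3
set_option linter.all false

/-!
# Traces in `SL_3` (helper895)
-/

set_option autoImplicit false

namespace Cfsg.Agent.H895.SLT

open Cfsg Cfsg.Geo
open scoped MatrixGroups Matrix

variable {F : Type*} [Field F]

/-- the special linear group in dimension three -/
abbrev S3 (F : Type*) [Field F] : Subgroup (GL (Fin 3) F) := specialLinear (Fin 3) F

/-- the trace of an invertible matrix -/
def tr (g : GL (Fin 3) F) : F := (g : Matrix (Fin 3) (Fin 3) F).trace

theorem det_eq_one {g : GL (Fin 3) F} (hg : g ∈ S3 F) : (g : Matrix (Fin 3) (Fin 3) F).det = 1 :=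
  (H905.mem_sl_iff g).1 hg

theorem inv_val {g : GL (Fin 3) F} (hg : g ∈ S3 F) :
    ((g⁻¹ : GL (Fin 3) F) : Matrix (Fin 3) (Fin 3) F) = (g : Matrix (Fin 3) (Fin 3) F).adjugate := by
  have h1 : (g : Matrix (Fin 3) (Fin 3) F) * (g : Matrix (Fin 3) (Fin 3) F).adjugate = 1 := by
    rw [Matrix.mul_adjugate, det_eq_one hg, one_smul]
  calc ((g⁻¹ : GL (Fin 3) F) : Matrix (Fin 3) (Fin 3) F)
      = ((g⁻¹ : GL (Fin 3) F) : Matrix (Fin 3) (Fin 3) F) *
          ((g : Matrix (Fin 3) (Fin 3) F) * (g : Matrix (Fin 3) (Fin 3) F).adjugate) := by rw [h1, mul_one]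
    _ = _ := by rw [← mul_assoc, Units.inv_mul, one_mul]

theorem trace_mul_self (M : Matrix (Fin 3) (Fin 3) F) :
    (M * M).trace = M.trace ^ 2 - 2 * M.adjugate.trace := by
  simp only [Matrix.trace_fin_three, Matrix.adjugate_fin_three, Matrix.mul_apply, Fin.sum_univ_three]
  simp
  ring

theorem tr_sq {g : GL (Fin 3) F} (hg : g ∈ S3 F) : tr (g * g) = tr g ^ 2 - 2 * tr g⁻¹ := by
  unfold tr
  rw [Units.val_mul, trace_mul_self, inv_val hg]

theorem tr_conj (x g : GL (Fin 3) F) : tr (x * g * x⁻¹) = tr g := by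
  unfold tr
  rw [Units.val_mul, Matrix.trace_mul_comm, ← Units.val_mul]
  congr 2
  group

theorem tr_smul {g h : GL (Fin 3) F} {c : F}
    (h' : (g : Matrix (Fin 3) (Fin 3) F) = c • (h : Matrix (Fin 3) (Fin 3) F)) : tr g = c * tr h := by
  unfold tr
  rw [h', Matrix.trace_smul, smul_eq_mul]

theorem cayley (M : Matrix (Fin 3) (Fin 3) F) :
    M * M * M = M.trace • (M * M) - M.adjugate.trace • M + M.det • (1 : Matrix (Fin 3) (Fin 3) F) := by
  ext i j
  simp only [Matrix.trace_fin_three, Matrix.adjugate_fin_three, Matrix.det_fin_three, Matrix.add_apply,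
    Matrix.sub_apply, Matrix.smul_apply, Matrix.mul_apply, Fin.sum_univ_three, smul_eq_mul]
  fin_cases i <;> fin_cases j <;> simp <;> ring

theorem cayley_sl {g : GL (Fin 3) F} (hg : g ∈ S3 F) :
    (g : Matrix (Fin 3) (Fin 3) F) * g * g = tr g • ((g : Matrix (Fin 3) (Fin 3) F) * g) - tr g⁻¹ •
      (g : Matrix (Fin 3) (Fin 3) F) + 1 := by
  rw [cayley, det_eq_one hg, one_smul, ← inv_val hg]
  rfl

/-- An element of order five with all traces of powers equal: characteristic five. -/
theorem five_eq_zero {g : GL (Fin 3) F} (hg : g ∈ S3 F) (h5 : g ^ 5 = 1) (h1 : g ≠ 1) (hi : tr g⁻¹ = tr g)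
    (h2 : tr (g * g) = tr g) : (5 : F) = 0 := by
  have h3 := tr_sq hg
  rw [h2, hi] at h3
  have h4 : tr g * (tr g - 3) = 0 := by linear_combination -h3
  -- Cayley-Hamilton
  have h5' : (g : Matrix (Fin 3) (Fin 3) F) * g * g * (g * g) = 1 := by
    have h6 := congrArg (fun x : GL (Fin 3) F => (x : Matrix (Fin 3) (Fin 3) F)) h5
    simp only [Units.val_pow_eq_pow_val, Units.val_one] at h6
    rw [← h6]
    noncomm_ring
  have hc := cayley_sl hg
  rw [hi] at hc
  rcases mul_eq_zero.1 h4 with h | h
  · exfalso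
    rw [h, zero_smul, zero_smul, sub_zero, zero_add] at hc
    rw [hc, one_mul] at h5'
    rw [h5', one_mul] at hc
    exact h1 (Units.ext hc)
  · have ht : tr g = 3 := sub_eq_zero.1 h
    rw [ht] at hc
    by_contra h50
    apply h1
    apply Units.ext
    set N : Matrix (Fin 3) (Fin 3) F := (g : Matrix (Fin 3) (Fin 3) F) - 1 with hN
    have hg' : (g : Matrix (Fin 3) (Fin 3) F) = 1 + N := by rw [hN]; abel
    have hN3 : N * N * N = 0 := by
      have : N * N * N = (g : Matrix (Fin 3) (Fin 3) F) * g * g - (3 : F) • ((g : Matrix (Fin 3) (Fin 3) F) * g) +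
          (3 : F) • (g : Matrix (Fin 3) (Fin 3) F) - 1 := by
        rw [hN, show (3 : F) • ((g : Matrix (Fin 3) (Fin 3) F) * g) = (g : Matrix (Fin 3) (Fin 3) F) * g +
          (g : Matrix (Fin 3) (Fin 3) F) * g + (g : Matrix (Fin 3) (Fin 3) F) * g by module,
          show (3 : F) • (g : Matrix (Fin 3) (Fin 3) F) = (g : Matrix (Fin 3) (Fin 3) F) + g + g by module]
        noncomm_ring
      rw [this, hc]
      module
    have e1 : (5 : F) • N + (10 : F) • (N * N) = 0 := by
      have h7 : (1 + N) * (1 + N) * (1 + N) * ((1 + N) * (1 + N)) = 1 + ((5 : F) • N + (10 : F) • (N * N)) +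
          ((10 : F) • (N * N * N) + (5 : F) • (N * N * N * N) + N * N * N * N * N) := by
        rw [show (5 : F) • N = N + N + N + N + N by module,
          show (10 : F) • (N * N) = N * N + N * N + N * N + N * N + N * N + N * N + N * N + N * N + N * N + N * N by
            module,
          show (10 : F) • (N * N * N) = N * N * N + N * N * N + N * N * N + N * N * N + N * N * N + N * N * N +
            N * N * N + N * N * N + N * N * N + N * N * N by module,
          show (5 : F) • (N * N * N * N) = N * N * N * N + N * N * N * N + N * N * N * N + N * N * N * N +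
            N * N * N * N by module]
        noncomm_ring
      rw [← hg', h5', hN3] at h7
      simp only [zero_mul, smul_zero, add_zero] at h7
      have h8 := h7.symm
      rwa [add_eq_left] at h8
    have e2 : (5 : F) • (N * N) = 0 := by
      have h9 := congrArg (fun M => M * N) e1
      simp only [add_mul, smul_mul_assoc, hN3, smul_zero, add_zero, zero_mul] at h9
      exact h9
    have e3 : N * N = 0 := (smul_eq_zero.1 e2).resolve_left h50
    rw [e3, smul_zero, add_zero] at e1
    have e4 : N = 0 := (smul_eq_zero.1 e1).resolve_left h50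
    rw [hg', e4, add_zero, Units.val_one]

end Cfsg.Agent.H895.SLT
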